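import Groth.Agent.ResProp.EF.K743.Iface2
import Mathlib.LinearAlgebra.Matrix.Adjugate
import Mathlib.RingTheory.Flat.Basic

/-!
# The identities P1, P2, P4 of the frame ring (helper556, job 652)

`frame_P1`, `frame_P2` (`s` flat), `frame_P4`: the fields `P1`, `P2`, `P4` of `K743.Frame` for `LRing.frameData P R`.
-/

set_option autoImplicit false

universe u

open Groth.Agent.Grpsch.AffGrpd

namespace Groth.Agent.ResProp.EF.K556

open K743 TensorProduct

/-- Cramer's rule, in the form of P1 -/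
theorem cramer_dot {T : Type*} [CommRing T] {r : ℕ} {ι : Type*} (q : ι → Fin r → T) (u : Fin r → T) (z : ι → T)
    (hz : ∀ j, z j = ∑ a, u a * q j a) (I : Fin r → ι) (j : ι) :
    Matrix.det (Matrix.of fun i a => q (I i) a) * z j =
      ∑ i, Matrix.det (Matrix.of fun i' a => q (Function.update I i j i') a) * z (I i) := by
  set M : Matrix (Fin r) (Fin r) T := Matrix.of fun i a => q (I i) a with hM
  have h1 := Matrix.mulVec_cramer M.transpose (q j)
  rw [Matrix.det_transpose] at h1
  have h2 : ∀ a, M.det * q j a = ∑ i, q (I i) a * (M.updateRow i (q j)).det := by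
    intro a
    have h3 := congrFun h1 a
    rw [Pi.smul_apply, smul_eq_mul] at h3
    rw [← h3, Matrix.mulVec, dotProduct]
    apply Finset.sum_congr rfl
    intro i _
    rw [Matrix.cramer_transpose_apply, Matrix.transpose_apply]
    rfl
  have h4 : ∀ i, M.updateRow i (q j) = Matrix.of fun i' a => q (Function.update I i j i') a := by
    intro i
    ext i' a
    rw [Matrix.updateRow_apply, Matrix.of_apply]
    by_cases h : i' = i
    · subst h
      rw [if_pos rfl, Function.update_self]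
    · rw [if_neg h, Function.update_of_ne h]
      rfl
  rw [hz j, Finset.mul_sum]
  have h5 : ∀ i, Matrix.det (Matrix.of fun i' a => q (Function.update I i j i') a) * z (I i) =
      ∑ a, u a * (q (I i) a * (M.updateRow i (q j)).det) := by
    intro i
    rw [← h4 i, hz (I i), Finset.mul_sum]
    apply Finset.sum_congr rfl
    intro a _
    ring
  rw [Finset.sum_congr rfl fun i _ => h5 i, Finset.sum_comm]
  apply Finset.sum_congr rfl
  intro a _
  rw [← Finset.mul_sum, ← h2 a]
  ring

/-- an identity `∑ d_i ⊗ g_i = 0` may be checked after enlarging `D` -/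
theorem univ_zero {A Γ D L : Type u} [CommRing A] [CommRing Γ] [CommRing D] [CommRing L] (s : A →+* Γ) (hs : s.Flat)
    (ι : A →+* D) (jL : D →+* L) (hj : Function.Injective jL) {I : Type*} (S : Finset I) (d : I → D) (g : I → Γ)
    (H : ∀ {T' : Type u} [CommRing T'] (f : L →+* T') (h : Γ →+* T'), h.comp s = f.comp (jL.comp ι) →
      ∑ i ∈ S, f (jL (d i)) * h (g i) = 0)
    {T : Type u} [CommRing T] (φ : D →+* T) (h : Γ →+* T) (e : h.comp s = φ.comp ι) :
    ∑ i ∈ S, φ (d i) * h (g i) = 0 := by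
  let _ := ι.toAlgebra
  let _ := s.toAlgebra
  let _ := (jL.comp ι).toAlgebra
  let _ := (φ.comp ι).toAlgebra
  have : Module.Flat A Γ := hs
  let jA : D →ₐ[A] L := { jL with commutes' := fun a => rfl }
  let φA : D →ₐ[A] T := { φ with commutes' := fun a => rfl }
  let hA : Γ →ₐ[A] T := { h with commutes' := fun a => by exact congrArg (fun k => k a) e }
  let z : D ⊗[A] Γ := ∑ i ∈ S, d i ⊗ₜ g i
  have hz : z = 0 := by
    have hinj : Function.Injective (jA.toLinearMap.rTensor Γ) :=
      Module.Flat.rTensor_preserves_injective_linearMap jA.toLinearMap hj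
    apply hinj
    rw [map_zero, map_sum]
    have h1 := H (T' := L ⊗[A] Γ) (Algebra.TensorProduct.includeLeftRingHom)
      (Algebra.TensorProduct.includeRight (R := A) (A := L) (B := Γ)).toRingHom (by
        ext a
        exact (Algebra.TensorProduct.includeRight (R := A) (A := L) (B := Γ)).commutes a)
    rw [← h1]
    apply Finset.sum_congr rfl
    intro i _
    rw [LinearMap.rTensor_tmul]
    change jL (d i) ⊗ₜ[A] g i = (jL (d i) ⊗ₜ[A] (1 : Γ)) * ((1 : L) ⊗ₜ[A] g i)
    rw [Algebra.TensorProduct.tmul_mul_tmul, mul_one, one_mul]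
  have h2 := congrArg (Algebra.TensorProduct.productMap φA hA) hz
  rw [map_zero, map_sum] at h2
  rw [← h2]
  apply Finset.sum_congr rfl
  intro i _
  rw [Algebra.TensorProduct.productMap_apply_tmul]
  rfl

section key

variable {A Γ : Type u} [CommRing A] [CommRing Γ] {G : RGrpd A Γ} {X : Gens G} {m : ℕ} {K : Type u} [Field K]
  {x : A →+* K} (P : PtData G X m x) (R : LRing G x P.r₁ P.r₂)

/-- `l₁⁻¹ Q₁ j` -/
noncomputable def v₁ (j : Fin X.n) (a : Fin P.r₁) : R.L := ∑ k, R.γ (G.i (X.c k j)) * R.y (P.V₁ k a)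

/-- `l₂⁻¹ Q₂ J` -/
noncomputable def v₂ (J : Fin m → Fin X.n) (b : Fin P.r₂) : R.L :=
  ∑ κ : Fin m → Fin P.r₁, (∏ i, v₁ P R (J i) (κ i)) * R.y (P.μ₀ κ b)

theorem hcomp {T : Type u} [CommRing T] (f : R.L →+* T) (g : Γ →+* T) (e : g.comp G.s = f.comp (R.γ.comp G.t)) :
    g.comp G.s = (f.comp R.γ).comp G.t := e

theorem hcomp_s {T : Type u} [CommRing T] (f : R.L →+* T) (g : Γ →+* T) (e : g.comp G.s = (f.comp R.γ).comp G.t) :
    (G.comp g (f.comp R.γ) e).comp G.s = (f.comp R.y).comp x := by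
  rw [G.comp_s, RingHom.comp_assoc, R.hγ, RingHom.comp_assoc]

theorem comp_congr {T : Type u} [CommRing T] {α α' β β' : Γ →+* T} (h : α.comp G.s = β.comp G.t) (ha : α = α')
    (hb : β = β') : G.comp α β h = G.comp α' β' (by rw [← ha, ← hb, h]) := by
  subst ha hb
  rfl

/-- `(g γ) γ⁻¹ = g` -/
theorem comp_inv {T : Type u} [CommRing T] (g γ : Γ →+* T) (e : g.comp G.s = γ.comp G.t) :
    G.comp (G.comp g γ e) (γ.comp G.i) (by rw [G.comp_s, RingHom.comp_assoc, G.i_t]) = g := by
  rw [G.assoc g γ (γ.comp G.i) e (by rw [RingHom.comp_assoc, G.i_t])]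
  rw [comp_congr (G := G) (α := g) (α' := g) (β' := (g.comp G.s).comp G.e) _ rfl
    ((G.comp_i γ).trans (by rw [e]))]
  exact G.comp_e g

/-- **KEY**, degree 1 -/
theorem key₁ {T : Type u} [CommRing T] (f : R.L →+* T) (g : Γ →+* T) (e : g.comp G.s = (f.comp R.γ).comp G.t)
    (j : Fin X.n) : g (X.x j) =
      ∑ a, P.w₁ (f.comp R.y) (G.comp g (f.comp R.γ) e) (hcomp_s P R f g e) a * f (v₁ P R j a) := by
  have h1 : _ = g (X.x j) := congrArg (fun k : Γ →+* T => k (X.x j)) (comp_inv g (f.comp R.γ) e)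
  rw [← h1, X.hc]
  have h2 : ∀ k, G.comp g (f.comp R.γ) e (X.x k) = _ := fun k => P.hw₁ (f.comp R.y) _ (hcomp_s P R f g e) k
  simp only [h2, v₁, map_sum, map_mul, Finset.mul_sum, Finset.sum_mul, RingHom.comp_apply]
  rw [Finset.sum_comm]
  apply Finset.sum_congr rfl
  intro a _
  apply Finset.sum_congr rfl
  intro k _
  ring

/-- **KEY**, degree `m` -/
theorem key₂ {T : Type u} [CommRing T] (f : R.L →+* T) (g : Γ →+* T) (e : g.comp G.s = (f.comp R.γ).comp G.t)
    (J : Fin m → Fin X.n) : g (X.mon J) =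
      ∑ b, P.w₂ (f.comp R.y) (G.comp g (f.comp R.γ) e) (hcomp_s P R f g e) b * f (v₂ P R J b) := by
  rw [Gens.mon, map_prod]
  simp only [key₁ P R f g e]
  rw [Finset.prod_univ_sum]
  simp only [Fintype.piFinset_univ, Finset.prod_mul_distrib, P.hμ, v₂, map_sum, map_mul, map_prod, Finset.mul_sum,
    Finset.sum_mul, RingHom.comp_apply]
  rw [Finset.sum_comm]
  apply Finset.sum_congr rfl
  intro b _
  apply Finset.sum_congr rfl
  intro κ _
  ring

/-- `Q₁ = l₁ v₁` -/
theorem Q₁L_eq (j : Fin X.n) (a : Fin P.r₁) : LRing.Q₁L P R j a = ∑ a', R.l₁.1 a a' * v₁ P R j a' := by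
  simp only [LRing.Q₁L, v₁, Finset.mul_sum]
  rw [Finset.sum_comm]
  apply Finset.sum_congr rfl
  intro a' _
  apply Finset.sum_congr rfl
  intro k _
  ring

/-- `v₁ = l₁⁻¹ Q₁` -/
theorem v₁_eq (j : Fin X.n) (a : Fin P.r₁) : v₁ P R j a = ∑ a', (R.l₁⁻¹).1 a a' * LRing.Q₁L P R j a' := by
  simp only [Q₁L_eq, Finset.mul_sum]
  rw [Finset.sum_comm]
  have h1 : (R.l₁⁻¹).1 * R.l₁.1 = 1 := by
    rw [← Units.val_mul, inv_mul_cancel, Units.val_one]
  have h2 : ∀ a', ∑ i, (R.l₁⁻¹).1 a i * (R.l₁.1 i a' * v₁ P R j a') = (if a = a' then v₁ P R j a' else 0) := by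
    intro a'
    have h3 := congrFun (congrFun h1 a) a'
    rw [Matrix.mul_apply, Matrix.one_apply] at h3
    simp only [← mul_assoc]
    rw [← Finset.sum_mul, h3]
    split_ifs <;> simp
  rw [Finset.sum_congr rfl fun a' _ => h2 a']
  simp

/-- the `Q₂` of the frame data, in `L` -/
noncomputable def Q₂L (J : Fin m → Fin X.n) (b : Fin P.r₂) : R.L :=
  ∑ κ : Fin m → Fin P.r₁, (∏ i, LRing.Q₁L P R (J i) (κ i)) * LRing.μL P R κ b

/-- `Q₂ = l₂ v₂` -/
theorem Q₂L_eq (J : Fin m → Fin X.n) (b : Fin P.r₂) : Q₂L P R J b = ∑ b', R.l₂.1 b b' * v₂ P R J b' := by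
  simp only [Q₂L, LRing.μL, v₂, v₁_eq P R, Finset.prod_univ_sum, Fintype.piFinset_univ, Finset.prod_mul_distrib,
    Finset.mul_sum, Finset.sum_mul]
  rw [Finset.sum_comm]
  apply Finset.sum_congr rfl
  intro b' _
  rw [Finset.sum_comm]
  apply Finset.sum_congr rfl
  intro κ' _
  apply Finset.sum_congr rfl
  intro κ _
  ring

/-- `v₂ = l₂⁻¹ Q₂` -/
theorem v₂_eq (J : Fin m → Fin X.n) (b : Fin P.r₂) : v₂ P R J b = ∑ b', (R.l₂⁻¹).1 b b' * Q₂L P R J b' := by
  simp only [Q₂L_eq, Finset.mul_sum]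
  rw [Finset.sum_comm]
  have h1 : (R.l₂⁻¹).1 * R.l₂.1 = 1 := by
    rw [← Units.val_mul, inv_mul_cancel, Units.val_one]
  have h2 : ∀ a', ∑ i, (R.l₂⁻¹).1 b i * (R.l₂.1 i a' * v₂ P R J a') = (if b = a' then v₂ P R J a' else 0) := by
    intro a'
    have h3 := congrFun (congrFun h1 b) a'
    rw [Matrix.mul_apply, Matrix.one_apply] at h3
    simp only [← mul_assoc]
    rw [← Finset.sum_mul, h3]
    split_ifs <;> simp
  rw [Finset.sum_congr rfl fun a' _ => h2 a']
  simp

/-! ### The frame data -/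

/-- the inclusion `D ⊆ L` -/
noncomputable def inc : (LRing.frameData P R).D →+* R.L := (LRing.DL P R).subtype

theorem inc_injective : Function.Injective (inc P R) := fun _ _ h => Subtype.ext h

theorem inc_comp_ι : (inc P R).comp (LRing.frameData P R).ι = R.γ.comp G.t := rfl

theorem inc_ι (a : A) : inc P R ((LRing.frameData P R).ι a) = R.γ (G.t a) := rfl

theorem inc_Q₁ (j : Fin X.n) (a : Fin P.r₁) : inc P R ((LRing.frameData P R).Q₁ j a) = LRing.Q₁L P R j a := rfl

theorem inc_μ (κ : Fin m → Fin P.r₁) (b : Fin P.r₂) : inc P R ((LRing.frameData P R).μ κ b) = LRing.μL P R κ b := rfl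

theorem map_Q₂ (F : FrameData G X m) {T : Type u} [CommRing T] (f : F.D →+* T) (J : Fin m → Fin X.n) (b : Fin F.r₂) :
    f (F.Q₂ J b) = ∑ κ : Fin m → Fin F.r₁, (∏ i, f (F.Q₁ (J i) (κ i))) * f (F.μ κ b) := by
  rw [FrameData.Q₂, map_sum]
  apply Finset.sum_congr rfl
  intro κ _
  rw [map_mul, map_prod]

theorem map_m₁ (F : FrameData G X m) {T : Type u} [CommRing T] (f : F.D →+* T) (I : Fin F.r₁ → Fin X.n) :
    f (F.m₁ I) = Matrix.det (Matrix.of fun i a => f (F.Q₁ (I i) a)) := by
  rw [FrameData.m₁, RingHom.map_det]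
  rfl

theorem map_m₂ (F : FrameData G X m) {T : Type u} [CommRing T] (f : F.D →+* T) (I : Fin F.r₂ → Fin m → Fin X.n) :
    f (F.m₂ I) = Matrix.det (Matrix.of fun i b => f (F.Q₂ (I i) b)) := by
  rw [FrameData.m₂, RingHom.map_det]
  rfl

theorem inc_Q₂ (J : Fin m → Fin X.n) (b : Fin P.r₂) : inc P R ((LRing.frameData P R).Q₂ J b) = Q₂L P R J b :=
  map_Q₂ (LRing.frameData P R) (inc P R) J b

theorem inc_m₁ (I : Fin P.r₁ → Fin X.n) : inc P R ((LRing.frameData P R).m₁ I) =
    Matrix.det (Matrix.of fun i a => LRing.Q₁L P R (I i) a) :=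
  map_m₁ (LRing.frameData P R) (inc P R) I

theorem inc_m₂ (I : Fin P.r₂ → Fin m → Fin X.n) : inc P R ((LRing.frameData P R).m₂ I) =
    Matrix.det (Matrix.of fun i b => Q₂L P R (I i) b) := by
  refine (map_m₂ (LRing.frameData P R) (inc P R) I).trans ?_
  congr 1
  ext i b
  exact inc_Q₂ P R (I i) b

/-- the field `P1` of `Frame` -/
theorem frame_P1 (hs : G.s.Flat) {T : Type u} [CommRing T] (φ : (LRing.frameData P R).D →+* T) (h : Γ →+* T)
    (e : h.comp G.s = φ.comp (LRing.frameData P R).ι) (I : Fin (LRing.frameData P R).r₁ → Fin X.n) (j : Fin X.n) :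
    φ ((LRing.frameData P R).m₁ I) * h (X.x j) =
      ∑ i, φ ((LRing.frameData P R).m₁ (Function.update I i j)) * h (X.x (I i)) := by
  have h1 := univ_zero G.s hs (LRing.frameData P R).ι (inc P R) (inc_injective P R)
    (Finset.univ : Finset (Option (Fin (LRing.frameData P R).r₁)))
    (fun o => o.elim ((LRing.frameData P R).m₁ I) fun i => -(LRing.frameData P R).m₁ (Function.update I i j))
    (fun o => o.elim (X.x j) fun i => X.x (I i)) (by
      intro T' _ f g e'
      have h2 := cramer_dot (fun j a => f (LRing.Q₁L P R j a))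
        (fun a' => ∑ a, P.w₁ (f.comp R.y) (G.comp g (f.comp R.γ) e') (hcomp_s P R f g e') a * f ((R.l₁⁻¹).1 a a'))
        (fun j => g (X.x j)) (by
          intro j
          rw [key₁ P R f g e' j]
          simp only [v₁_eq P R, map_sum, map_mul, Finset.mul_sum, Finset.sum_mul]
          rw [Finset.sum_comm]
          apply Finset.sum_congr rfl
          intro a _
          apply Finset.sum_congr rfl
          intro a' _
          ring) I j
      have h3 : ∀ I' : Fin P.r₁ → Fin X.n, f (inc P R ((LRing.frameData P R).m₁ I')) =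
          Matrix.det (Matrix.of fun i a => f (LRing.Q₁L P R (I' i) a)) := by
        intro I'
        rw [inc_m₁, RingHom.map_det]
        rfl
      rw [Fintype.sum_option]
      simp only [Option.elim_none, Option.elim_some, map_neg, neg_mul, Finset.sum_neg_distrib]
      rw [← sub_eq_add_neg, sub_eq_zero]
      refine Eq.trans (congrArg (· * g (X.x j)) (h3 I)) (h2.trans ?_)
      apply Finset.sum_congr rfl
      intro i _
      exact congrArg (· * g (X.x (I i))) (h3 (Function.update I i j)).symm) φ h e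
  rw [Fintype.sum_option] at h1
  simp only [Option.elim_none, Option.elim_some, map_neg, neg_mul, Finset.sum_neg_distrib] at h1
  rwa [← sub_eq_add_neg, sub_eq_zero] at h1

/-- the field `P2` of `Frame` -/
theorem frame_P2 (hs : G.s.Flat) {T : Type u} [CommRing T] (φ : (LRing.frameData P R).D →+* T) (h : Γ →+* T)
    (e : h.comp G.s = φ.comp (LRing.frameData P R).ι) (I : Fin (LRing.frameData P R).r₂ → Fin m → Fin X.n)
    (J : Fin m → Fin X.n) :
    φ ((LRing.frameData P R).m₂ I) * h (X.mon J) =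
      ∑ i, φ ((LRing.frameData P R).m₂ (Function.update I i J)) * h (X.mon (I i)) := by
  have h1 := univ_zero G.s hs (LRing.frameData P R).ι (inc P R) (inc_injective P R)
    (Finset.univ : Finset (Option (Fin (LRing.frameData P R).r₂)))
    (fun o => o.elim ((LRing.frameData P R).m₂ I) fun i => -(LRing.frameData P R).m₂ (Function.update I i J))
    (fun o => o.elim (X.mon J) fun i => X.mon (I i)) (by
      intro T' _ f g e'
      have h2 := cramer_dot (fun J b => f (Q₂L P R J b))
        (fun a' => ∑ a, P.w₂ (f.comp R.y) (G.comp g (f.comp R.γ) e') (hcomp_s P R f g e') a * f ((R.l₂⁻¹).1 a a'))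
        (fun J => g (X.mon J)) (by
          intro J
          rw [key₂ P R f g e' J]
          simp only [v₂_eq P R, map_sum, map_mul, Finset.mul_sum, Finset.sum_mul]
          rw [Finset.sum_comm]
          apply Finset.sum_congr rfl
          intro a _
          apply Finset.sum_congr rfl
          intro a' _
          ring) I J
      have h3 : ∀ I' : Fin P.r₂ → Fin m → Fin X.n, f (inc P R ((LRing.frameData P R).m₂ I')) =
          Matrix.det (Matrix.of fun i a => f (Q₂L P R (I' i) a)) := by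
        intro I'
        rw [inc_m₂, RingHom.map_det]
        rfl
      rw [Fintype.sum_option]
      simp only [Option.elim_none, Option.elim_some, map_neg, neg_mul, Finset.sum_neg_distrib]
      rw [← sub_eq_add_neg, sub_eq_zero]
      refine Eq.trans (congrArg (· * g (X.mon J)) (h3 I)) (h2.trans ?_)
      apply Finset.sum_congr rfl
      intro i _
      exact congrArg (· * g (X.mon (I i))) (h3 (Function.update I i J)).symm) φ h e
  rw [Fintype.sum_option] at h1
  simp only [Option.elim_none, Option.elim_some, map_neg, neg_mul, Finset.sum_neg_distrib] at h1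
  rwa [← sub_eq_add_neg, sub_eq_zero] at h1

/-- the inverse trick: `h = g γ` with `g = h γ⁻¹` -/
theorem comp_inv' {T : Type u} [CommRing T] (h γ : Γ →+* T) (e : h.comp G.s = γ.comp G.s) :
    ∃ (e₁ : h.comp G.s = (γ.comp G.i).comp G.t) (e₂ : (G.comp h (γ.comp G.i) e₁).comp G.s = γ.comp G.t),
      G.comp (G.comp h (γ.comp G.i) e₁) γ e₂ = h := by
  have e₁ : h.comp G.s = (γ.comp G.i).comp G.t := by rw [RingHom.comp_assoc, G.i_t, e]
  have e₂ : (G.comp h (γ.comp G.i) e₁).comp G.s = γ.comp G.t := by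
    rw [G.comp_s, RingHom.comp_assoc, G.i_s]
  refine ⟨e₁, e₂, ?_⟩
  have e₃ : (γ.comp G.i).comp G.s = γ.comp G.t := by rw [RingHom.comp_assoc, G.i_s]
  rw [G.assoc h (γ.comp G.i) γ e₁ e₃]
  rw [comp_congr (G := G) (α := h) (α' := h) (β' := (h.comp G.s).comp G.e) _ rfl ((G.i_comp γ).trans (by rw [e]))]
  exact G.comp_e h

/-- the field `P4` of `Frame` -/
theorem frame_P4 (F : (Fin m → Fin X.n) → A) (hF : ∑ J, G.s (F J) * X.mon J = 0)
    (b : Fin (LRing.frameData P R).r₂) :
    ∑ J, (LRing.frameData P R).ι (F J) * (LRing.frameData P R).Q₂ J b = 0 := by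
  apply inc_injective P R
  rw [map_sum, map_zero]
  have h1 : ∀ J, inc P R ((LRing.frameData P R).ι (F J) * (LRing.frameData P R).Q₂ J b) =
      R.γ (G.t (F J)) * Q₂L P R J b := by
    intro J
    rw [map_mul]
    exact congrArg (R.γ (G.t (F J)) * ·) (inc_Q₂ P R J b)
  rw [Finset.sum_congr rfl fun J _ => h1 J]
  -- `d' = l₂⁻¹ d`
  have h2 : (fun b' : Fin P.r₂ => ∑ J, R.γ (G.t (F J)) * v₂ P R J b') = 0 := by
    apply P.inj₂ R.y
    intro T' _ f h e
    have e0 : h.comp G.s = (f.comp R.γ).comp G.s := by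
      rw [e, RingHom.comp_assoc, RingHom.comp_assoc, R.hγ]
    obtain ⟨e₁, e₂, e₃⟩ := comp_inv' h (f.comp R.γ) e0
    set g := G.comp h ((f.comp R.γ).comp G.i) e₁ with hg
    have h3 : ∀ J, g (X.mon J) = ∑ b, P.w₂ (f.comp R.y) h e b * f (v₂ P R J b) := by
      intro J
      rw [key₂ P R f g e₂ J]
      apply Finset.sum_congr rfl
      intro b _
      have h5 : ∀ (h' : Γ →+* T') (e' : h'.comp G.s = (f.comp R.y).comp x), h' = h →
          P.w₂ (f.comp R.y) h' e' b = P.w₂ (f.comp R.y) h e b := by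
        intro h' e' hh
        subst hh
        rfl
      rw [h5 _ _ e₃]
    have h4 : ∑ b, P.w₂ (f.comp R.y) h e b * f (∑ J, R.γ (G.t (F J)) * v₂ P R J b) =
        g (∑ J, G.s (F J) * X.mon J) := by
      rw [map_sum]
      simp only [map_mul, h3, map_sum, Finset.mul_sum]
      rw [Finset.sum_comm]
      apply Finset.sum_congr rfl
      intro J _
      apply Finset.sum_congr rfl
      intro b _
      have h6 : g (G.s (F J)) = f (R.γ (G.t (F J))) := congrArg (fun k : A →+* T' => k (F J)) e₂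
      rw [h6]
      ring
    rw [h4, hF, map_zero]
  have h7 : ∀ b : Fin P.r₂, ∑ J, R.γ (G.t (F J)) * Q₂L P R J b = 0 := by
    intro b
    simp only [Q₂L_eq, Finset.mul_sum]
    rw [Finset.sum_comm]
    apply Finset.sum_eq_zero
    intro b' _
    have h3 := congrFun h2 b'
    simp only [Pi.zero_apply] at h3
    have h4 : ∀ J, R.γ (G.t (F J)) * (R.l₂.1 b b' * v₂ P R J b') =
        R.l₂.1 b b' * (R.γ (G.t (F J)) * v₂ P R J b') := fun J => by ring
    rw [Finset.sum_congr rfl fun J _ => h4 J, ← Finset.mul_sum]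
    rw [h3, mul_zero]
  exact h7 b

end key

end Groth.Agent.ResProp.EF.K556
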